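import Mathlib

/-!
Exactness of adic completion along a map whose induced topology is the adic one, with bounded shift.
-/

namespace Groth.Agent.AdicExact

open AdicCompletion

universe u

variable {R : Type u} [CommRing R] (I : Ideal R) {M N Q : Type u} [AddCommGroup M] [Module R M]
  [AddCommGroup N] [Module R N] [AddCommGroup Q] [Module R Q] (i : M →ₗ[R] N) (g : N →ₗ[R] Q) (c : ℕ)

theorem map_injective
    (hc : ∀ n, ∀ m : M, i m ∈ (I ^ (n + c) • ⊤ : Submodule R N) → m ∈ (I ^ n • ⊤ : Submodule R M)) :
    Function.Injective (AdicCompletion.map I i) := by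
  rw [injective_iff_map_eq_zero]
  intro x hx
  refine AdicCompletion.ext fun n => ?_
  obtain ⟨m, hm⟩ := Submodule.Quotient.mk_surjective _ (x.val (n + c))
  have h1 : (Submodule.Quotient.mk (i m) : N ⧸ (I ^ (n + c) • ⊤ : Submodule R N)) = 0 := by
    have h2 := congrArg (fun y => y.val (n + c)) hx
    simp only [AdicCompletion.map_val_apply, ← hm] at h2
    simpa using h2
  rw [Submodule.Quotient.mk_eq_zero] at h1
  rw [← transitionMap_comp_eval_apply I M (Nat.le_add_right n c) x, ← hm]
  show Submodule.Quotient.mk m = 0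
  exact (Submodule.Quotient.mk_eq_zero _).mpr (hc n m h1)

theorem map_exact (hg : Function.Surjective g) (hig : Function.Exact i g)
    (hc : ∀ n, ∀ m : M, i m ∈ (I ^ (n + c) • ⊤ : Submodule R N) → m ∈ (I ^ n • ⊤ : Submodule R M)) :
    Function.Exact (AdicCompletion.map I i) (AdicCompletion.map I g) := by
  intro y
  refine ⟨fun hy => ?_, ?_⟩
  · have hrep : ∀ n, ∃ (m : M) (b : N), Submodule.Quotient.mk b = y.val (n + c) ∧
        b - i m ∈ (I ^ (n + c) • ⊤ : Submodule R N) := fun n => by
      obtain ⟨b, hb⟩ := Submodule.Quotient.mk_surjective _ (y.val (n + c))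
      have h1 : g b ∈ (I ^ (n + c) • ⊤ : Submodule R Q) := by
        have h2 := congrArg (fun z => z.val (n + c)) hy
        simp only [AdicCompletion.map_val_apply, ← hb] at h2
        rw [← Submodule.Quotient.mk_eq_zero]
        simpa using h2
      rw [← LinearMap.range_eq_top.mpr hg, ← Submodule.map_top, ← Submodule.map_smul''] at h1
      obtain ⟨d, hd, hdb⟩ := h1
      obtain ⟨m, hm⟩ := (hig (b - d)).mp (by rw [map_sub, hdb, sub_self])
      exact ⟨m, b, hb, by rw [hm, sub_sub_cancel]; exact hd⟩
    choose m b hb hbm using hrep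
    have hcompat : ∀ {k n : ℕ} (hkn : k ≤ n),
        transitionMap I M hkn (Submodule.Quotient.mk (m n)) = Submodule.Quotient.mk (m k) := by
      intro k n hkn
      show Submodule.Quotient.mk (m n) = Submodule.Quotient.mk (m k)
      rw [Submodule.Quotient.eq]
      refine hc k _ ?_
      have h3 : b n - b k ∈ (I ^ (k + c) • ⊤ : Submodule R N) := by
        rw [← Submodule.Quotient.eq, hb k, ← transitionMap_comp_eval_apply I N (Nat.add_le_add_right hkn c) y, ← hb n]
        rfl
      have h4 : b n - i (m n) ∈ (I ^ (k + c) • ⊤ : Submodule R N) :=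
        Submodule.smul_mono_left (Ideal.pow_le_pow_right (Nat.add_le_add_right hkn c)) (hbm n)
      have : i (m n - m k) = (b n - b k) - (b n - i (m n)) + (b k - i (m k)) := by rw [map_sub]; abel
      rw [this]
      exact add_mem (sub_mem h3 h4) (hbm k)
    refine ⟨⟨fun n => Submodule.Quotient.mk (m n), fun hkn => hcompat hkn⟩, AdicCompletion.ext fun n => ?_⟩
    rw [AdicCompletion.map_val_apply, ← transitionMap_comp_eval_apply I N (Nat.le_add_right n c) y, ← hb n]
    show Submodule.Quotient.mk (i (m n)) = Submodule.Quotient.mk (b n)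
    rw [Submodule.Quotient.eq]
    have h5 : i (m n) - b n ∈ (I ^ (n + c) • ⊤ : Submodule R N) := by
      rw [← neg_sub]; exact Submodule.neg_mem _ (hbm n)
    exact Submodule.smul_mono_left (Ideal.pow_le_pow_right (Nat.le_add_right n c)) h5
  · rintro ⟨x, rfl⟩
    rw [AdicCompletion.map_comp_apply, show g ∘ₗ i = 0 from LinearMap.ext fun z => hig.apply_apply_eq_zero z,
      AdicCompletion.map_zero]
    rfl

/-- A module killed by a power of `I` is its own completion. -/
theorem of_bijective (hc : ∀ x ∈ I ^ c, ∀ q : Q, x • q = 0) : Function.Bijective (AdicCompletion.of I Q) := by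
  have hbot : ∀ n, c ≤ n → (I ^ n • ⊤ : Submodule R Q) = ⊥ := fun n hn => by
    rw [eq_bot_iff, Submodule.smul_le]
    exact fun x hx q _ => (Submodule.mem_bot R).mpr (hc x (Ideal.pow_le_pow_right hn hx) q)
  constructor
  · rw [injective_iff_map_eq_zero]
    intro q hq
    have h1 : (Submodule.Quotient.mk q : Q ⧸ (I ^ c • ⊤ : Submodule R Q)) = 0 := congrArg (fun z => z.val c) hq
    rw [Submodule.Quotient.mk_eq_zero, hbot c le_rfl, Submodule.mem_bot] at h1
    exact h1
  · intro x
    obtain ⟨q, hq⟩ := Submodule.Quotient.mk_surjective _ (x.val c)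
    refine ⟨q, AdicCompletion.ext fun n => ?_⟩
    rw [of_apply]
    rcases le_total n c with h | h
    · rw [← transitionMap_comp_eval_apply I Q h x, ← hq]
      rfl
    · obtain ⟨q', hq'⟩ := Submodule.Quotient.mk_surjective _ (x.val n)
      have h2 : (Submodule.Quotient.mk q' : Q ⧸ (I ^ c • ⊤ : Submodule R Q)) = Submodule.Quotient.mk q := by
        rw [hq, ← transitionMap_comp_eval_apply I Q h x, ← hq']
        rfl
      rw [Submodule.Quotient.eq, hbot c le_rfl, Submodule.mem_bot, sub_eq_zero] at h2
      rw [← hq', h2]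
      rfl

end Groth.Agent.AdicExact
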